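import Mathlib

/-!
# Fused elements of a threefold cover do not commute with elements of order five (helper461)

`π : L → K` with central kernel of order three, `a` in `L` with `π a` of order three, `a` conjugate to `a ζ`, `ζ ≠ 1`.
If `25` does not divide `|C(π a)|` and `9` does not divide `|C(f)|` for `f` of order five, then `π a` commutes with no
element of order five.
-/

set_option autoImplicit false

namespace Cfsg.Agent.H461.QO

open Subgroup

/-- coprime orders -/
theorem eq_one_of_coprime {G : Type*} [Group G] {x : G} {m n : ℕ} (h : Nat.Coprime m n) (hm : x ^ m = 1)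
    (hn : x ^ n = 1) : x = 1 := by
  have h1 := Nat.dvd_gcd (orderOf_dvd_of_pow_eq_one hm) (orderOf_dvd_of_pow_eq_one hn)
  rw [Nat.Coprime.gcd_eq_one h, Nat.dvd_one] at h1
  exact orderOf_eq_one_iff.1 h1

/-- `x ∈ N` if two coprime powers are in `N` -/
theorem mem_of_coprime {G : Type*} [Group G] (N : Subgroup G) {x : G} {m n : ℕ} (h : Nat.Coprime m n) (hm : x ^ m ∈ N)
    (hn : x ^ n ∈ N) : x ∈ N := by
  have h1 := Nat.gcd_eq_gcd_ab m n
  rw [Nat.Coprime.gcd_eq_one h] at h1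
  have h2 : x = (x ^ m) ^ (Nat.gcdA m n) * (x ^ n) ^ (Nat.gcdB m n) := by
    rw [← zpow_natCast, ← zpow_natCast, ← zpow_mul, ← zpow_mul, ← zpow_add, ← h1]
    simp
  rw [h2]
  exact mul_mem (zpow_mem hm _) (zpow_mem hn _)

/-- a 3-element normalising a group of order five centralises it -/
theorem comm_of_normalizer {G : Type*} [Group G] [Finite G] {P : Subgroup G} (hP : Nat.card P = 5) {n : G} {s : ℕ}
    (hn : n ^ (3 ^ s) = 1) (hnP : n ∈ normalizer (P : Set G)) {y : G} (hy : y ∈ P) : n * y = y * n := by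
  have h5 : Fact (Nat.Prime 5) := ⟨by norm_num⟩
  have hcyc : IsCyclic P := isCyclic_of_prime_card hP
  have hcard : Nat.card (MulAut P) = 4 := by
    rw [IsCyclic.card_mulAut, hP, Nat.totient_prime (by norm_num)]
  have hfin : Finite (MulAut P) := Nat.finite_of_card_ne_zero (by rw [hcard]; norm_num)
  have h1 : P.normalizerMonoidHom ⟨n, hnP⟩ = 1 := by
    refine eq_one_of_coprime (m := 3 ^ s) (n := 4) (Nat.Coprime.pow_left _ (by norm_num)) ?_ ?_
    · rw [← map_pow]
      have h2 : (⟨n, hnP⟩ : normalizer (P : Set G)) ^ (3 ^ s) = 1 := Subtype.ext hn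
      rw [h2, map_one]
    · rw [← hcard]
      exact pow_card_eq_one'
  rw [← MonoidHom.mem_ker, Subgroup.normalizerMonoidHom_ker, mem_subgroupOf, mem_centralizer_iff] at h1
  exact (h1 y hy).symm

variable {L : Type*} {K : Type*} [Group L] [Group K] [Finite L] {π : L →* K}

/-- **no element of order five** -/
theorem no_five (hs : Function.Surjective π) (hc : π.ker ≤ center L) (h3 : Nat.card π.ker = 3) {a h : L}
    (ha : orderOf (π a) = 3) (hah : π a * π h = π h * π a) (hne : a * h ≠ h * a)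
    (c35 : ¬ 5 ^ 2 ∣ Nat.card (centralizer ({π a} : Set K)))
    (c53 : ∀ f : K, orderOf f = 5 → ¬ 3 ^ 2 ∣ Nat.card (centralizer ({f} : Set K))) {f : K} (hf : orderOf f = 5)
    (hfa : f * π a = π a * f) : False := by
  have p5 : Fact (Nat.Prime 5) := ⟨by norm_num⟩
  have p3 : Fact (Nat.Prime 3) := ⟨by norm_num⟩
  -- powers of elements of the kernel
  have hk3 : ∀ ζ : L, π ζ = 1 → ζ ^ 3 = 1 := by
    intro ζ hζ
    have h1 : (⟨ζ, hζ⟩ : π.ker) ^ Nat.card π.ker = 1 := pow_card_eq_one'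
    rw [h3] at h1
    exact congrArg Subtype.val h1
  have hcen : ∀ ζ : L, π ζ = 1 → ∀ y : L, y * ζ = ζ * y := fun ζ hζ y => mem_center_iff.1 (hc hζ) y
  -- conjugation of `a`
  have hconj : ∀ d : L, π d * π a = π a * π d → ∃ ζ : L, π ζ = 1 ∧ d * a * d⁻¹ = a * ζ := by
    intro d hd
    refine ⟨a⁻¹ * (d * a * d⁻¹), ?_, by group⟩
    rw [map_mul, map_mul, map_mul, map_inv, map_inv, hd]
    group
  have hpow : ∀ (d ζ : L), π ζ = 1 → d * a * d⁻¹ = a * ζ → ∀ n : ℕ, d ^ n * a * (d ^ n)⁻¹ = a * ζ ^ n := by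
    intro d ζ hζ hd n
    induction n with
    | zero => simp
    | succ n ih =>
      have h2 : d * ζ ^ n = ζ ^ n * d := ((show Commute d ζ from hcen ζ hζ d).pow_right n).eq
      calc d ^ (n + 1) * a * (d ^ (n + 1))⁻¹ = d * (d ^ n * a * (d ^ n)⁻¹) * d⁻¹ := by rw [pow_succ']; group
        _ = d * (a * ζ ^ n) * d⁻¹ := by rw [ih]
        _ = d * a * (ζ ^ n * d⁻¹) := by group
        _ = d * a * (d⁻¹ * ζ ^ n) := by
          have h5 : ζ ^ n * d⁻¹ = d⁻¹ * ζ ^ n := by
            calc ζ ^ n * d⁻¹ = d⁻¹ * (d * ζ ^ n) * d⁻¹ := by group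
              _ = d⁻¹ * (ζ ^ n * d) * d⁻¹ := by rw [h2]
              _ = _ := by group
          rw [h5]
        _ = (d * a * d⁻¹) * ζ ^ n := by group
        _ = a * ζ * ζ ^ n := by rw [hd]
        _ = a * ζ ^ (n + 1) := by rw [pow_succ', mul_assoc]
  -- the groups
  set G : Subgroup L := (centralizer ({π a} : Set K)).comap π with hG
  have hmemG : ∀ d : L, d ∈ G ↔ π d * π a = π a * π d := fun d => by
    rw [hG, mem_comap, mem_centralizer_singleton_iff]
  set N : Subgroup G := (centralizer ({a} : Set L)).subgroupOf G with hN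
  have hmemN : ∀ d : G, d ∈ N ↔ (d : L) * a = a * d := fun d => by
    rw [hN, mem_subgroupOf, mem_centralizer_singleton_iff]
  have hNn : N.Normal := by
    constructor
    intro n hn d
    rw [hmemN] at hn ⊢
    obtain ⟨ζ, hζ, hd⟩ := hconj ((d : L)⁻¹) (by
      have h1 := (hmemG _).1 (inv_mem d.2)
      exact h1)
    rw [inv_inv] at hd
    have h1 : (d : L)⁻¹ * a = a * ζ * (d : L)⁻¹ := by rw [← hd]; group
    have h2 : a * d = d * (a * ζ) := by rw [← hd]; group
    show (d : L) * n * (d : L)⁻¹ * a = a * ((d : L) * n * (d : L)⁻¹)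
    calc (d : L) * n * (d : L)⁻¹ * a = d * n * ((d : L)⁻¹ * a) := by group
      _ = d * n * (a * ζ * (d : L)⁻¹) := by rw [h1]
      _ = d * (n * a) * ζ * (d : L)⁻¹ := by group
      _ = d * (a * n) * ζ * (d : L)⁻¹ := by rw [hn]
      _ = d * a * (n * ζ) * (d : L)⁻¹ := by group
      _ = d * a * (ζ * n) * (d : L)⁻¹ := by rw [hcen ζ hζ]
      _ = (d * (a * ζ)) * n * (d : L)⁻¹ := by group
      _ = (a * d) * n * (d : L)⁻¹ := by rw [← h2]
      _ = _ := by group
  have hcube : ∀ d : G, d ^ 3 ∈ N := by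
    intro d
    obtain ⟨ζ, hζ, hd⟩ := hconj d ((hmemG _).1 d.2)
    have h1 := hpow d ζ hζ hd 3
    rw [hk3 ζ hζ, mul_one, mul_inv_eq_iff_eq_mul] at h1
    rw [hmemN]
    exact h1
  -- an element of order five of `N`
  obtain ⟨F₀, hF₀⟩ := hs f
  have hf5 : f ^ 5 = 1 := by rw [← hf, pow_orderOf_eq_one]
  have hF15 : F₀ ^ 15 = 1 := by
    have h1 := hk3 (F₀ ^ 5) (by rw [map_pow, hF₀, hf5])
    rwa [← pow_mul] at h1
  have hπF : π (F₀ ^ 6) = f := by
    rw [map_pow, hF₀, show 6 = 5 + 1 by norm_num, pow_succ, hf5, one_mul]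
  have hF5 : (F₀ ^ 6) ^ 5 = 1 := by
    rw [← pow_mul, show 6 * 5 = 15 * 2 by norm_num, pow_mul, hF15, one_pow]
  have hFG : F₀ ^ 6 ∈ G := by rw [hmemG, hπF, hfa]
  have hFN : (⟨F₀ ^ 6, hFG⟩ : G) ∈ N := by
    refine mem_of_coprime N (m := 3) (n := 5) (by norm_num) (hcube _) ?_
    have h1 : (⟨F₀ ^ 6, hFG⟩ : G) ^ 5 = 1 := Subtype.ext hF5
    rw [h1]
    exact one_mem _
  have hN5 : 5 ∣ Nat.card N := by
    have h1 : orderOf (⟨⟨F₀ ^ 6, hFG⟩, hFN⟩ : N) = 5 := by
      rw [Subgroup.orderOf_mk, Subgroup.orderOf_mk]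
      refine orderOf_eq_prime hF5 fun h1 => ?_
      rw [h1, map_one] at hπF
      rw [← hπF, orderOf_one] at hf
      omega
    rw [← h1]
    exact orderOf_dvd_natCard _
  have hN25 : ¬ 5 ^ 2 ∣ Nat.card N := by
    intro h25
    obtain ⟨Q, hQ⟩ := Sylow.exists_subgroup_card_pow_prime 5 h25
    apply c35
    let Q' : Subgroup L := (Q.map N.subtype).map G.subtype
    have hQ' : Nat.card Q' = 5 ^ 2 := by
      rw [Subgroup.card_map_of_injective G.subtype_injective, Subgroup.card_map_of_injective N.subtype_injective, hQ]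
    have h1 : Nat.card (Q'.map π) = 5 ^ 2 := by
      have h2 : Function.Injective (π.comp Q'.subtype) := by
        rw [← MonoidHom.ker_eq_bot_iff, Subgroup.eq_bot_iff_forall]
        intro x hx
        have h4 : π (x : L) = 1 := hx
        have h5 : (x : L) ^ 3 = 1 := hk3 _ h4
        have h6 : x ^ Nat.card Q' = 1 := pow_card_eq_one'
        refine eq_one_of_coprime (m := 3) (n := 5 ^ 2) (by norm_num) (Subtype.ext h5) ?_
        rw [← hQ']
        exact h6
      have h3 : Q'.map π = (π.comp Q'.subtype).range := by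
        ext y
        constructor
        · rintro ⟨x, hx, rfl⟩
          exact ⟨⟨x, hx⟩, rfl⟩
        · rintro ⟨x, rfl⟩
          exact ⟨x, x.2, rfl⟩
      rw [h3, ← Nat.card_congr (MonoidHom.ofInjective h2).toEquiv, hQ']
    rw [← h1]
    refine Subgroup.card_dvd_of_le ?_
    rintro _ ⟨_, ⟨x, -, rfl⟩, rfl⟩
    exact (mem_comap.1 x.2)
  -- Frattini
  obtain ⟨S⟩ : Nonempty (Sylow 5 N) := inferInstance
  have hScard : Nat.card S = 5 := by
    have h1 := S.card_eq_multiplicity
    have h2 : (Nat.card N).factorization 5 = 1 := by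
      have h3 : 1 ≤ (Nat.card N).factorization 5 :=
        ((Nat.Prime.pow_dvd_iff_le_factorization p5.out Nat.card_pos.ne').1 (by rwa [pow_one]))
      have h4 : ¬ 2 ≤ (Nat.card N).factorization 5 := fun h =>
        hN25 ((Nat.Prime.pow_dvd_iff_le_factorization p5.out Nat.card_pos.ne').2 h)
      omega
    rw [h2, pow_one] at h1
    exact h1
  have hfr := Sylow.normalizer_sup_eq_top S
  set P : Subgroup G := (S : Subgroup N).map N.subtype with hP
  have hPc : Nat.card P = 5 := by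
    rw [hP, Subgroup.card_map_of_injective N.subtype_injective]
    exact hScard
  have hhG : h ∈ G := by rw [hmemG, hah]
  have hhN : (⟨h, hhG⟩ : G) ∉ N := by
    rw [hmemN]
    exact fun e => hne e.symm
  obtain ⟨n, hn, d, hd, hnd⟩ : ∃ n ∈ normalizer (P : Set G), ∃ d ∈ N, n * d = (⟨h, hhG⟩ : G) := by
    have h1 : (⟨h, hhG⟩ : G) ∈ normalizer (P : Set G) ⊔ N := by rw [hfr]; trivial
    exact Subgroup.mem_sup_of_normal_right.1 h1
  have hnN : n ∉ N := fun h1 => hhN (hnd ▸ mul_mem h1 hd)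
  obtain ⟨s, t, ht, hst⟩ := Nat.exists_eq_pow_mul_and_not_dvd (orderOf_pos n).ne' 3 (by norm_num)
  have hn'N : n ^ t ∉ N := fun h1 => hnN (mem_of_coprime N (m := 3) (n := t)
    ((Nat.Prime.coprime_iff_not_dvd (by norm_num)).2 ht) (hcube n) h1)
  have hn'3 : (n ^ t) ^ (3 ^ s) = 1 := by
    rw [← pow_mul, mul_comm, ← hst, pow_orderOf_eq_one]
  have hn'P : n ^ t ∈ normalizer (P : Set G) := pow_mem hn t
  -- a generator of `P`
  obtain ⟨y, hy⟩ := exists_prime_orderOf_dvd_card' (G := P) 5 (by rw [hPc])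
  have hyn := comm_of_normalizer hPc hn'3 hn'P y.2
  have hyN : (y : G) ∈ N := by
    obtain ⟨u, -, hu⟩ := y.2
    rw [← hu]
    exact u.2
  have hya : ((y : G) : L) * a = a * (y : G) := (hmemN _).1 hyN
  have hyo : orderOf ((y : G) : L) = 5 := by rw [Subgroup.orderOf_coe, Subgroup.orderOf_coe, hy]
  have hy5 : ((y : G) : L) ^ 5 = 1 := by rw [← hyo, pow_orderOf_eq_one]
  have hπy : orderOf (π ((y : G) : L)) = 5 := by
    refine orderOf_eq_prime (by rw [← map_pow, hy5, map_one]) fun h1 => ?_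
    have h2 := eq_one_of_coprime (m := 3) (n := 5) (by norm_num) (hk3 _ h1) hy5
    rw [h2, orderOf_one] at hyo
    omega
  -- `9 ∣ |C(π y)|`
  refine c53 _ hπy ?_
  set T : Subgroup K := centralizer ({π ((y : G) : L)} : Set K) ⊓ centralizer ({π a} : Set K) with hT
  have hTle : T ≤ centralizer ({π ((y : G) : L)} : Set K) := inf_le_left
  refine dvd_trans ?_ (Subgroup.card_dvd_of_le hTle)
  have haT : π a ∈ T := ⟨mem_centralizer_singleton_iff.2 (by rw [← map_mul, ← map_mul, hya]),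
    mem_centralizer_singleton_iff.2 rfl⟩
  set w : L := ((n ^ t : G) : L) with hw
  have hwT : π w ∈ T := by
    refine ⟨mem_centralizer_singleton_iff.2 ?_, mem_centralizer_singleton_iff.2 ((hmemG _).1 (n ^ t : G).2)⟩
    have h1 : w * ((y : G) : L) = ((y : G) : L) * w := congrArg Subtype.val hyn
    rw [← map_mul, ← map_mul, h1]
  set B : Subgroup T := zpowers (⟨π a, haT⟩ : T) with hB
  have hBn : B.Normal := by
    constructor
    intro b hb u
    obtain ⟨i, rfl⟩ := mem_zpowers_iff.1 hb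
    have h1 : u * (⟨π a, haT⟩ : T) = (⟨π a, haT⟩ : T) * u :=
      Subtype.ext (mem_centralizer_singleton_iff.1 u.2.2)
    have h2 : u * (⟨π a, haT⟩ : T) ^ i * u⁻¹ = (⟨π a, haT⟩ : T) ^ i := by
      rw [((show Commute u (⟨π a, haT⟩ : T) from h1).zpow_right i).eq, mul_inv_cancel_right]
    rw [h2]
    exact hb
  have hwB : (⟨π w, hwT⟩ : T) ∉ B := by
    intro h1
    obtain ⟨i, hi⟩ := mem_zpowers_iff.1 h1
    have h2 : (π a) ^ i = π w := congrArg Subtype.val hi
    apply hn'N
    rw [hmemN]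
    show w * a = a * w
    -- `w = a ^ i ζ`
    have h4 : π (a ^ (-i) * w) = 1 := by rw [map_mul, map_zpow, ← h2, ← zpow_add]; simp
    have h5 := hcen _ h4 a
    have h6 : w = a ^ i * (a ^ (-i) * w) := by rw [← mul_assoc, ← zpow_add]; simp
    have h7 : a ^ i * a = a * a ^ i := ((Commute.refl a).zpow_left i).eq
    calc w * a = a ^ i * ((a ^ (-i) * w) * a) := by rw [← mul_assoc, ← h6]
      _ = a ^ i * (a * (a ^ (-i) * w)) := by rw [← h5]
      _ = (a ^ i * a) * (a ^ (-i) * w) := by group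
      _ = a * (a ^ i * (a ^ (-i) * w)) := by rw [h7]; group
      _ = a * w := by rw [← h6]
  have hBc : Nat.card B = 3 := by
    rw [hB, Nat.card_zpowers, Subgroup.orderOf_mk, ha]
  have hq : 3 ∣ Nat.card (T ⧸ B) := by
    have h1 : ((⟨π w, hwT⟩ : T) : T ⧸ B) ≠ 1 := fun h2 => hwB ((QuotientGroup.eq_one_iff _).1 h2)
    have h2 : ((⟨π w, hwT⟩ : T) : T ⧸ B) ^ (3 ^ s) = 1 := by
      have h3 : (⟨π w, hwT⟩ : T) ^ (3 ^ s) = 1 := by
        apply Subtype.ext
        show (π w) ^ (3 ^ s) = 1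
        have h4 : w ^ (3 ^ s) = 1 := congrArg Subtype.val hn'3
        rw [← map_pow, h4, map_one]
      rw [← QuotientGroup.mk_pow, h3, QuotientGroup.mk_one]
    have h3 := orderOf_dvd_of_pow_eq_one h2
    obtain ⟨j, -, hj⟩ := (Nat.dvd_prime_pow Nat.prime_three).1 h3
    have hj0 : j ≠ 0 := by
      rintro rfl
      rw [pow_zero, orderOf_eq_one_iff] at hj
      exact h1 hj
    exact (dvd_pow_self 3 hj0).trans (hj ▸ orderOf_dvd_natCard _)
  rw [Subgroup.card_eq_card_quotient_mul_card_subgroup B, hBc, pow_two]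
  exact Nat.mul_dvd_mul_right hq 3

omit [Finite L] in
/-- **fused elements** : commuting images, the lifts do not commute, kernel of prime order -/
theorem isConj_all {p : ℕ} (hp : p.Prime) (hc : π.ker ≤ center L) (h3 : Nat.card π.ker = p) {g h : L}
    (hcm : π g * π h = π h * π g) (hne : g * h ≠ h * g) (ζ : L) (hζ : π ζ = 1) : IsConj g (g * ζ) := by
  have hp' : Fact p.Prime := ⟨hp⟩
  set c : L := g⁻¹ * (h * g * h⁻¹) with hcd
  have hc1 : π c = 1 := by
    rw [hcd, map_mul, map_mul, map_mul, map_inv, map_inv, ← hcm]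
    group
  have hcn : c ≠ 1 := by
    intro h1
    rw [hcd, inv_mul_eq_one, eq_mul_inv_iff_mul_eq] at h1
    exact hne h1
  have hcc : ∀ y : L, y * c = c * y := fun y => mem_center_iff.1 (hc hc1) y
  have hgc : h * g * h⁻¹ = g * c := by rw [hcd]; group
  have key : ∀ n : ℕ, h ^ n * g * (h ^ n)⁻¹ = g * c ^ n := by
    intro n
    induction n with
    | zero => simp
    | succ n ih =>
      have h2 : h * c ^ n = c ^ n * h := ((show Commute h c from hcc h).pow_right n).eq
      calc h ^ (n + 1) * g * (h ^ (n + 1))⁻¹ = h * (h ^ n * g * (h ^ n)⁻¹) * h⁻¹ := by rw [pow_succ']; group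
        _ = h * (g * c ^ n) * h⁻¹ := by rw [ih]
        _ = h * g * h⁻¹ * (h * c ^ n * h⁻¹) := by group
        _ = h * g * h⁻¹ * c ^ n := by rw [h2, mul_inv_cancel_right]
        _ = g * c ^ (n + 1) := by rw [hgc, pow_succ', mul_assoc]
  have hmem : (⟨ζ, hζ⟩ : π.ker) ∈ Submonoid.powers (⟨c, hc1⟩ : π.ker) :=
    mem_powers_of_prime_card h3 fun h1 => hcn (congrArg Subtype.val h1)
  obtain ⟨n, hn⟩ := hmem
  have hn' : c ^ n = ζ := congrArg Subtype.val hn
  rw [← hn']
  exact isConj_iff.2 ⟨h ^ n, key n⟩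

end Cfsg.Agent.H461.QO
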