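import Cfsg.Agent.H461.QO.Fuse
import Cfsg.Agent.H58.McLCover
import Cfsg.Agent.H647.SpF.HSMcL

/-!
# S2491, S2492: the fused class of `3.McL` (helper461)

The universal cover `L = C_Ly(x)` of `McL` has an element `a`, of order three modulo the centre, conjugate to `a ζ` for
all `ζ` of the centre; its image commutes with no element of order five.
-/

set_option autoImplicit false
set_option maxRecDepth 100000

namespace Cfsg.Agent.H461.QO

open scoped commutatorElement
open Subgroup Cfsg.Agent.TypeM.OutLyFin Cfsg.Agent.TypeM Cfsg.Agent.H51.Mult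
open Cfsg.Agent.Ly.Mat7

theorem chk4 : eqW (w2 ++ w2 ++ w2) [] = true := by decide +kernel

/-- `g` of order dividing three, with `[g, h] = x` -/
theorem exists_pair {P : Type*} [Group P] {x : Fin 5 → P} (D : Cfsg.Agent.Ly.Upper.Data x) :
    ∃ g h : centralizer ({ev (Cfsg.Agent.Ly.WalkCtx.X4 x) Cfsg.Agent.Ly.McL.Data.xw} : Set P),
      ((⁅g, h⁆ : centralizer ({ev (Cfsg.Agent.Ly.WalkCtx.X4 x) Cfsg.Agent.Ly.McL.Data.xw} : Set P)) : P) =
        ev (Cfsg.Agent.Ly.WalkCtx.X4 x) Cfsg.Agent.Ly.McL.Data.xw ∧ g ^ 3 = 1 := by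
  have h1 := Cfsg.Agent.Ly.McL.Main.com_word D chk1
  have h2 := Cfsg.Agent.Ly.McL.Main.com_word D chk2
  have h3 := D.wp _ _ chk3
  rw [ev_append, ev_append, ev_append] at h3
  have h4 := D.wp _ _ chk4
  rw [ev_append, ev_append] at h4
  refine ⟨⟨_, mem_centralizer_singleton_iff.2 h2⟩, ⟨_, mem_centralizer_singleton_iff.2 h1⟩, ?_, Subtype.ext ?_⟩
  · rw [commutatorElement_def, Subgroup.coe_mul, Subgroup.coe_mul, Subgroup.coe_mul, Subgroup.coe_inv,
      Subgroup.coe_inv]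
    show ev _ w2 * ev _ w1 * (ev _ w2)⁻¹ * (ev _ w1)⁻¹ = _
    rw [← h3]
    group
  · show ev _ w2 ^ 3 = 1
    rw [pow_succ, pow_two, h4]
    rfl

/-- **the fused class of `3.McL`** -/
theorem exists_fused : ∃ (L : Type) (_ : Group L) (_ : Finite L) (π : L →* Cfsg.Spor.McL), PCE π ∧
    Nat.card π.ker = 3 ∧ ∃ a : L, orderOf (π a) = 3 ∧ (∀ ζ : L, π ζ = 1 → IsConj a (a * ζ)) ∧
      ∀ f : Cfsg.Spor.McL, orderOf f = 5 → f * π a ≠ π a * f := by
  have hfin : Finite Cfsg.Spor.Ly := Cfsg.Agent.Ly.Setup.finite_ly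
  have hfinM : Finite Cfsg.Spor.McL := Cfsg.Agent.H647.SpF.McL.finite
  have hA0 : Nat.card Cfsg.Agent.Ly.McL.Cent.A0 ≤ 378000 :=
    Cfsg.Agent.Ly.McL.ClassX.card_centralizer_x_le Cfsg.Agent.Ly.T1.card_Hhat
  obtain ⟨h1, h2, h3, h4⟩ := Cfsg.Agent.Ly.McL.Main.main Cfsg.Agent.Ly.Index.data Cfsg.Agent.Ly.Pres.closure_gens
    Cfsg.Agent.Ly.Setup.card_ly hA0
  have hx := Cfsg.Agent.Ly.McL.Main.order_x' Cfsg.Agent.Ly.Index.data Cfsg.Agent.Ly.Pres.closure_gens
    Cfsg.Agent.Ly.Setup.card_ly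
  obtain ⟨L⟩ := FactsLy.exists_mt_ly
  obtain ⟨g, h, hgh, hg3⟩ := exists_pair Cfsg.Agent.Ly.Index.data
  obtain ⟨L', htx, h5, h6, L8, hL8⟩ := exists_out_data L hx h1 h2 h3 hgh
  obtain ⟨e⟩ := Cfsg.Agent.McLLyComp.FactsAutMT.iso_mcl L8
  have hs : Function.Surjective (e.toMonoidHom.comp (QuotientGroup.mk' (center _))) :=
    e.surjective.comp (QuotientGroup.mk'_surjective _)
  have hker : (e.toMonoidHom.comp (QuotientGroup.mk' (center _))).ker = center _ := by
    rw [ker_congr, QuotientGroup.ker_mk']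
  have hk3 : Nat.card (e.toMonoidHom.comp (QuotientGroup.mk' (center _))).ker = 3 := by rw [hker, h2]
  have h7 : ⁅g, h⁆ ∈ center _ := (McLFromLy.mem_center_iff_zpowers hx h2).2 (by rw [hgh]; exact mem_zpowers _)
  have hz : (e.toMonoidHom.comp (QuotientGroup.mk' (center _))) ⁅g, h⁆ = 1 := by
    rw [← hker] at h7
    exact h7
  have hgh' : g * h ≠ h * g := by
    intro h8
    have h9 := commutatorElement_eq_one_iff_mul_comm.2 h8
    have h10 := congrArg (Subtype.val) h9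
    rw [hgh] at h10
    rw [h10, Subgroup.coe_one, orderOf_one] at hx
    omega
  have hπgh : (e.toMonoidHom.comp (QuotientGroup.mk' (center _))) g *
      (e.toMonoidHom.comp (QuotientGroup.mk' (center _))) h =
      (e.toMonoidHom.comp (QuotientGroup.mk' (center _))) h *
      (e.toMonoidHom.comp (QuotientGroup.mk' (center _))) g := by
    rw [map_commutatorElement, commutatorElement_eq_one_iff_mul_comm] at hz
    exact hz
  have hg : orderOf ((e.toMonoidHom.comp (QuotientGroup.mk' (center _))) g) = 3 := by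
    have : Fact (Nat.Prime 3) := ⟨Nat.prime_three⟩
    refine orderOf_eq_prime (by rw [← map_pow, hg3, map_one]) fun h8 => ?_
    exact hgh' (mem_center_iff.1 (hker.le h8) h).symm
  refine ⟨_, inferInstance, inferInstance, e.toMonoidHom.comp (QuotientGroup.mk' (center _)), ⟨hs, hker.le, h6⟩, hk3,
    g, hg, fun ζ hζ => isConj_all Nat.prime_three hker.le hk3 hπgh hgh' ζ hζ, fun f hf hfa => ?_⟩
  exact no_five hs hker.le hk3 hg hπgh hgh' (Cfsg.Agent.H647.SpF.McL.cb_three_five' _ hg)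
    (fun f hf => Cfsg.Agent.H647.SpF.McL.cb_five_three f hf) hf hfa

end Cfsg.Agent.H461.QO
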